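import Groth.Agent.ProjTwist.Ratio
import Groth.Agent.QCoh.FiniteType
import Groth.Agent.QCoh.Exact
import Groth.Prelude.Def_Coh

/-!
Coherent modules on `Proj` of a Noetherian graded ring are quotients of sums of twists.
-/

open CategoryTheory CategoryTheory.Limits AlgebraicGeometry TopologicalSpace Opposite

universe u

noncomputable section

namespace Groth.Agent.ProjTwist

open Twist

variable {R A : Type u} [CommRing R] [CommRing A] [Algebra R A] {𝒜 : ℕ → Submodule R A}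
  [GradedAlgebra 𝒜]

theorem inf_iSup_basicOpen {r : ℕ} (g : Fin r → A) (hg : ⨆ i, Proj.basicOpen 𝒜 (g i) = ⊤)
    (U : (Proj 𝒜).Opens) : U ≤ ⨆ i, U ⊓ Proj.basicOpen 𝒜 (g i) := fun x hx => by
  obtain ⟨i, hi⟩ := Opens.mem_iSup.mp (hg.ge (trivial : x ∈ (⊤ : (Proj 𝒜).Opens)))
  exact Opens.mem_iSup.mpr ⟨i, hx, hi⟩

section Extend

variable {E : ℕ} {r : ℕ} (g : Fin r → A) (hg : ∀ i, g i ∈ 𝒜 E) (hE : 0 < E) (F : (Proj 𝒜).Modules)

/-- The data of a homomorphism `O(-mE) ⟶ F`: the images of `1 / g_i^m`. -/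
structure TwistData (m : ℕ) where
  /-- the image of `1 / g_i ^ m` -/
  σ : ∀ i, Γ(F, Proj.basicOpen 𝒜 (g i))
  compat : ∀ i j, QCoh.res F inf_le_left (σ i) =
    fracFun (hg j) (hg i) (inf_le_left :
      Proj.basicOpen 𝒜 (g i) ⊓ Proj.basicOpen 𝒜 (g j) ≤ _) ^ m • QCoh.res F inf_le_right (σ j)

variable {g hg F}

theorem fracFun_pow_eq {U : (Proj 𝒜).Opens} {a b : A} (ha : a ∈ 𝒜 E) (hb : b ∈ 𝒜 E)
    (h : U ≤ Proj.basicOpen 𝒜 b) (m : ℕ) :
    fracFun ha hb h ^ m = fracFun (SetLike.pow_mem_graded m ha) (SetLike.pow_mem_graded m hb)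
      (h.trans (by rcases m with _ | m
                   · rw [pow_zero, Proj.basicOpen_one]; exact le_top
                   · rw [Proj.basicOpen_pow 𝒜 b (m + 1) (Nat.succ_pos m)])) :=
  fracFun_pow ha hb h m _

theorem rres_fracFun_pow {U V : (Proj 𝒜).Opens} (h : V ≤ U) {a b : A} (ha : a ∈ 𝒜 E)
    (hb : b ∈ 𝒜 E) (hU : U ≤ Proj.basicOpen 𝒜 b) (m : ℕ) :
    QCoh.rres h (fracFun ha hb hU ^ m) = fracFun ha hb (h.trans hU) ^ m :=
  map_pow ((Proj 𝒜).presheaf.map (homOfLE h).op).hom _ m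

variable (hcov : ⨆ i, Proj.basicOpen 𝒜 (g i) = ⊤) {m : ℕ} (D : TwistData g hg F m)

/-- A piece of the image of a section of `O(-mE)`. -/
def TwistData.piece {U : (Proj 𝒜).Opens}
    (t : sectN (𝒜 := 𝒜) (-((m • E : ℕ) : ℤ)) (op U)) (i : Fin r) :
    Γ(F, U ⊓ Proj.basicOpen 𝒜 (g i)) :=
  QCoh.rres (inf_le_left : U ⊓ Proj.basicOpen 𝒜 (g i) ≤ U)
      (mulFun t (SetLike.pow_mem_graded m (hg i))) •
    QCoh.res F (inf_le_right : U ⊓ Proj.basicOpen 𝒜 (g i) ≤ Proj.basicOpen 𝒜 (g i)) (D.σ i)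

theorem TwistData.piece_compat {U : (Proj 𝒜).Opens}
    (t : sectN (𝒜 := 𝒜) (-((m • E : ℕ) : ℤ)) (op U)) (i j : Fin r) :
    QCoh.res F inf_le_left (D.piece t i) =
      QCoh.res F (inf_le_right : (U ⊓ Proj.basicOpen 𝒜 (g i)) ⊓ (U ⊓ Proj.basicOpen 𝒜 (g j)) ≤ _)
        (D.piece t j) := by
  set W := (U ⊓ Proj.basicOpen 𝒜 (g i)) ⊓ (U ⊓ Proj.basicOpen 𝒜 (g j))
  have hi : W ≤ Proj.basicOpen 𝒜 (g i) := inf_le_left.trans inf_le_right
  have hj : W ≤ Proj.basicOpen 𝒜 (g j) := inf_le_right.trans inf_le_right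
  simp only [TwistData.piece, QCoh.res_smul, QCoh.rres_rres, QCoh.res_res]
  have e := congrArg (QCoh.res F (le_inf hi hj)) (D.compat i j)
  simp only [QCoh.res_smul, QCoh.res_res] at e
  rw [e, smul_smul]
  congr 1
  rw [rres_fracFun_pow (le_inf hi hj) (hg j) (hg i) inf_le_left m, fracFun_pow_eq]
  refine (congrArg (· * _) (mulFun_res (inf_le_left.trans inf_le_left : W ≤ U) t _)).trans ?_
  rw [mul_comm]
  exact (mulFun_eq _ (SetLike.pow_mem_graded m (hg j)) (SetLike.pow_mem_graded m (hg i)) _).symm.trans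
    (mulFun_res (inf_le_right.trans inf_le_left : W ≤ U) t _).symm

include hcov

theorem TwistData.exists_img {U : (Proj 𝒜).Opens}
    (t : sectN (𝒜 := 𝒜) (-((m • E : ℕ) : ℤ)) (op U)) :
    ∃ s : Γ(F, U), ∀ i, QCoh.res F inf_le_left s = D.piece t i :=
  QCoh.exists_glue F (fun _ => inf_le_left) (inf_iSup_basicOpen g hcov U) _ (D.piece_compat t)

/-- The image of a section of `O(-mE)`. -/
def TwistData.img {U : (Proj 𝒜).Opens} (t : sectN (𝒜 := 𝒜) (-((m • E : ℕ) : ℤ)) (op U)) : Γ(F, U) :=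
  (D.exists_img hcov t).choose

theorem TwistData.res_img {U : (Proj 𝒜).Opens} (t : sectN (𝒜 := 𝒜) (-((m • E : ℕ) : ℤ)) (op U))
    (i : Fin r) : QCoh.res F inf_le_left (D.img hcov t) = D.piece t i :=
  (D.exists_img hcov t).choose_spec i

theorem TwistData.img_eq {U : (Proj 𝒜).Opens} (t : sectN (𝒜 := 𝒜) (-((m • E : ℕ) : ℤ)) (op U))
    {s : Γ(F, U)} (hs : ∀ i, QCoh.res F inf_le_left s = D.piece t i) : D.img hcov t = s :=
  QCoh.eq_of_locally_eq F (fun _ => inf_le_left) (inf_iSup_basicOpen g hcov U) _ _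
    fun i => (D.res_img hcov t i).trans (hs i).symm

theorem TwistData.img_add {U : (Proj 𝒜).Opens}
    (t t' : sectN (𝒜 := 𝒜) (-((m • E : ℕ) : ℤ)) (op U)) :
    D.img hcov (t + t') = D.img hcov t + D.img hcov t' :=
  D.img_eq hcov _ fun i => by
    rw [map_add, D.res_img, D.res_img, TwistData.piece, TwistData.piece, TwistData.piece,
      ← add_smul, mulFun_add, map_add]

set_option maxHeartbeats 800000 in
theorem TwistData.img_smul {U : (Proj 𝒜).Opens} (c : Γ(Proj 𝒜, U))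
    (t : sectN (𝒜 := 𝒜) (-((m • E : ℕ) : ℤ)) (op U)) :
    D.img hcov ((show O (𝒜 := 𝒜) (op U) from c) • t) = c • D.img hcov t :=
  D.img_eq hcov _ fun i => by
    rw [QCoh.res_smul, D.res_img, TwistData.piece, TwistData.piece, smul_smul, mulFun_smul, map_mul]

theorem TwistData.res_img_res {U V : (Proj 𝒜).Opens} (h : V ≤ U)
    (t : sectN (𝒜 := 𝒜) (-((m • E : ℕ) : ℤ)) (op U)) :
    D.img hcov (resN _ (homOfLE h).op t) = QCoh.res F h (D.img hcov t) :=
  D.img_eq hcov _ fun i => by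
    have e := congrArg (QCoh.res F (inf_le_inf_right _ h :
      V ⊓ Proj.basicOpen 𝒜 (g i) ≤ U ⊓ Proj.basicOpen 𝒜 (g i))) (D.res_img hcov t i)
    rw [QCoh.res_res, TwistData.piece, QCoh.res_smul, QCoh.rres_rres, QCoh.res_res] at e
    rw [QCoh.res_res, e, TwistData.piece]
    congr 1
    refine ((congrArg _ (mulFun_res h t _)).symm.trans ?_).symm
    exact QCoh.rres_rres h inf_le_left _

/-- The homomorphism `O(-mE) ⟶ F` given by the data. -/
def TwistData.hom : twist 𝒜 (-((m • E : ℕ) : ℤ)) ⟶ F :=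
  ⟨PresheafOfModules.homMk
    { app := fun U => AddCommGrpCat.ofHom
        (AddMonoidHom.mk' (fun t => D.img hcov (U := U.unop) t) (D.img_add hcov (U := U.unop)))
      naturality := fun U V f => by
        ext t
        exact D.res_img_res hcov (leOfHom f.unop) t }
    (fun U c t => D.img_smul hcov (U := U.unop) c t)⟩

theorem TwistData.hom_app {U : (Proj 𝒜).Opens} (t : sectN (𝒜 := 𝒜) (-((m • E : ℕ) : ℤ)) (op U)) :
    (D.hom hcov).app U t = D.img hcov t := rfl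

theorem TwistData.hom_app_denSec (l : Fin r) (h : Proj.basicOpen 𝒜 (g l) ≤
      Proj.basicOpen 𝒜 (g l ^ m)) :
    (D.hom hcov).app _ (denSec (SetLike.pow_mem_graded m (hg l)) h) = D.σ l := by
  rw [D.hom_app]
  refine D.img_eq hcov _ fun i => ?_
  have hpow : Proj.basicOpen 𝒜 (g l) ⊓ Proj.basicOpen 𝒜 (g i) ≤ Proj.basicOpen 𝒜 (g l) := inf_le_left
  rw [TwistData.piece, mulFun_denSec, D.compat l i, fracFun_pow_eq]
  rfl

end Extend

section Data

variable {E : ℕ} {r : ℕ} (g : Fin r → A) (hg : ∀ i, g i ∈ 𝒜 E) (hE : 0 < E)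
  (hcov : ⨆ i, Proj.basicOpen 𝒜 (g i) = ⊤) (F : (Proj 𝒜).Modules) [F.IsQuasicoherent]

include hE hg

theorem isAffineOpen_inf (i j : Fin r) :
    IsAffineOpen (Proj.basicOpen 𝒜 (g i) ⊓ Proj.basicOpen 𝒜 (g j)) := by
  rw [← Proj.basicOpen_mul]
  exact Proj.isAffineOpen_basicOpen 𝒜 _ (SetLike.mul_mem_graded (hg i) (hg j)) (by omega)

theorem exists_twistData (l : Fin r) (s : Γ(F, Proj.basicOpen 𝒜 (g l))) :
    ∃ (m : ℕ) (D : TwistData g hg F m), D.σ l = s := by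
  classical
  let D : Fin r → (Proj 𝒜).Opens := fun i => Proj.basicOpen 𝒜 (g i)
  -- the ratios `g_b / g_a`
  let ρ : ∀ (a b : Fin r) {U : (Proj 𝒜).Opens}, U ≤ D a → Γ(Proj 𝒜, U) :=
    fun a b {U} h => fracFun (hg b) (hg a) h
  have ρ_res : ∀ a b {U V : (Proj 𝒜).Opens} (h : U ≤ D a) (hVU : V ≤ U) (N : ℕ),
      QCoh.rres hVU (ρ a b h ^ N) = ρ a b (hVU.trans h) ^ N :=
    fun a b U V h hVU N => rres_fracFun_pow hVU (hg b) (hg a) h N
  have ρ_mul : ∀ a b c {U : (Proj 𝒜).Opens} (ha : U ≤ D a) (hb : U ≤ D b) (N : ℕ),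
      ρ a b ha ^ N * ρ b c hb ^ N = ρ a c ha ^ N := fun a b c U ha hb N => by
    rw [← mul_pow, mul_comm]
    exact congrArg (· ^ N) (fracFun_mul_fracFun (hg c) (hg b) (hg a) hb ha)
  -- step 1: extend `(g_l / g_i)^N • s` to `D(g_i)` with `N` independent of `i`
  have H1 : ∀ i, ∃ (N : ℕ) (t : Γ(F, D i)),
      QCoh.res F (inf_le_left : D i ⊓ D l ≤ D i) t =
        ρ i l inf_le_left ^ N • QCoh.res F inf_le_right s := fun i => by
    have hQ := (QCoh.isQuasicoherent_iff_forall_isAffineOpen F).mp inferInstance _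
      (Proj.isAffineOpen_basicOpen 𝒜 _ (hg i) hE) (fracFun (hg l) (hg i) le_rfl)
    have hb := basicOpen_fracFun (hg l) (hg i) (le_rfl : D i ≤ D i)
    obtain ⟨N, t, ht⟩ := hQ.surj (QCoh.res F (hb.le.trans inf_le_right) s)
    refine ⟨N, t, ?_⟩
    have e := congrArg (QCoh.res F hb.ge) ht
    rw [QCoh.res_res, QCoh.res_smul, QCoh.res_res, map_pow, QCoh.rres_rres] at e
    exact e
  choose Nf tf htf using H1
  let N := Finset.univ.sup Nf
  let t : ∀ i, Γ(F, D i) := fun i => ρ i l le_rfl ^ (N - Nf i) • tf i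
  have ht : ∀ i {W : (Proj 𝒜).Opens} (hi : W ≤ D i) (hl : W ≤ D l),
      QCoh.res F hi (t i) = ρ i l hi ^ N • QCoh.res F hl s := by
    intro i W hi hl
    have e := congrArg (QCoh.res F (le_inf hi hl)) (htf i)
    rw [QCoh.res_res, QCoh.res_smul, ρ_res, QCoh.res_res] at e
    rw [QCoh.res_smul, ρ_res, e, smul_smul, ← pow_add,
      Nat.sub_add_cancel (Finset.le_sup (f := Nf) (Finset.mem_univ i))]
  clear_value t
  -- step 2: kill the discrepancies
  let δ : ∀ p : Fin r × Fin r, Γ(F, D p.1 ⊓ D p.2) := fun p =>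
    QCoh.res F (inf_le_left : D p.1 ⊓ D p.2 ≤ D p.1) (t p.1) -
      ρ p.1 p.2 (inf_le_left : D p.1 ⊓ D p.2 ≤ D p.1) ^ N •
        QCoh.res F (inf_le_right : D p.1 ⊓ D p.2 ≤ D p.2) (t p.2)
  have H2 : ∀ p : Fin r × Fin r, ∃ M : ℕ,
      ρ p.1 l (inf_le_left : D p.1 ⊓ D p.2 ≤ D p.1) ^ M • δ p = 0 := fun p => by
    have hQ := (QCoh.isQuasicoherent_iff_forall_isAffineOpen F).mp inferInstance _
      (isAffineOpen_inf g hg hE p.1 p.2) (fracFun (hg l) (hg p.1) inf_le_left)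
    refine hQ.eq_zero (δ p) ?_
    set W := (Proj 𝒜).basicOpen (fracFun (hg l) (hg p.1)
      (inf_le_left : D p.1 ⊓ D p.2 ≤ D p.1))
    have hW : W ≤ D p.1 ⊓ D p.2 := (Proj 𝒜).basicOpen_le _
    have hWl : W ≤ D l := (basicOpen_fracFun (hg l) (hg p.1) inf_le_left).le.trans inf_le_right
    rw [map_sub, QCoh.res_smul, QCoh.res_res, QCoh.res_res, ρ_res,
      ht p.1 (hW.trans inf_le_left) hWl, ht p.2 (hW.trans inf_le_right) hWl, smul_smul, ρ_mul,
      sub_self]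
  choose Mf hMf using H2
  let M := Finset.univ.sup Mf
  have hM : ∀ i j, ρ i l (inf_le_left : D i ⊓ D j ≤ D i) ^ M • δ (i, j) = 0 := fun i j => by
    rw [show M = (M - Mf (i, j)) + Mf (i, j) from
      (Nat.sub_add_cancel (Finset.le_sup (f := Mf) (Finset.mem_univ (i, j)))).symm, pow_add,
      mul_smul, hMf (i, j), smul_zero]
  refine ⟨N + M, ⟨fun i => ρ i l le_rfl ^ M • t i, fun i j => ?_⟩, ?_⟩
  · change QCoh.res F inf_le_left (ρ i l le_rfl ^ M • t i) = ρ i j inf_le_left ^ (N + M) •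
      QCoh.res F inf_le_right (ρ j l le_rfl ^ M • t j)
    rw [QCoh.res_smul, ρ_res, QCoh.res_smul, ρ_res]
    have e := hM i j
    rw [show δ (i, j) = QCoh.res F inf_le_left (t i) -
      ρ i j inf_le_left ^ N • QCoh.res F inf_le_right (t j) from rfl, smul_sub, sub_eq_zero] at e
    rw [e, smul_smul, smul_smul]
    congr 1
    rw [pow_add, mul_assoc, ρ_mul i j l inf_le_left inf_le_right M, mul_comm]
  · change ρ l l le_rfl ^ M • t l = s
    have e := ht l (le_refl (D l)) (le_refl (D l))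
    rw [QCoh.res_self, QCoh.res_self] at e
    rw [e, smul_smul, ← pow_add, show ρ l l (le_refl (D l)) = 1 from fracFun_self (hg l) _,
      one_pow, one_smul]

end Data

section Epi

theorem app_eq_zero_of_span {X : Scheme.{u}} {F Q : X.Modules} (π : F ⟶ Q) {V : X.Opens}
    {T : Set Γ(F, V)} (hT : Submodule.span Γ(X, V) T = ⊤) (h : ∀ s ∈ T, π.app V s = 0)
    (x : Γ(F, V)) : π.app V x = 0 := by
  induction (hT.ge trivial : x ∈ Submodule.span Γ(X, V) T) using Submodule.span_induction with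
  | mem s hs => exact h s hs
  | zero => exact map_zero _
  | add a b _ _ ha hb => rw [map_add, ha, hb, add_zero]
  | smul c a _ ha => rw [Scheme.Modules.Hom.app_smul, ha, smul_zero]

theorem eq_zero_of_app_eq_zero {X : Scheme.{u}} {F Q : X.Modules} [F.IsQuasicoherent] (π : F ⟶ Q)
    {ι : Type*} (V : ι → X.Opens) (hV : ∀ i, IsAffineOpen (V i)) (hcov : ⨆ i, V i = ⊤)
    (h : ∀ i x, π.app (V i) x = 0) : π = 0 := by
  refine Scheme.Modules.hom_ext π 0 fun U => ?_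
  ext x
  show π.app U x = 0
  have H : ∀ p : U, ∃ W : X.Opens, W ≤ U ∧ p.1 ∈ W ∧ ∀ y : Γ(F, W), π.app W y = 0 := fun p => by
    obtain ⟨i, hi⟩ := Opens.mem_iSup.mp (hcov.ge (trivial : p.1 ∈ (⊤ : X.Opens)))
    obtain ⟨f, hf, hpf⟩ := (hV i).exists_basicOpen_le (⟨p.1, p.2⟩ : U) hi
    refine ⟨X.basicOpen f, hf, hpf, fun y => ?_⟩
    obtain ⟨N, t, ht⟩ := ((QCoh.isQuasicoherent_iff_forall_isAffineOpen F).mp inferInstance _
      (hV i) f).surj y
    have hu : IsUnit (QCoh.rres (X.basicOpen_le f) f ^ N) :=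
      (RingedSpace.isUnit_res_basicOpen X.toRingedSpace f).pow N
    refine (hu.smul_eq_zero).mp ?_
    rw [← Scheme.Modules.Hom.app_smul, ← ht, QCoh.app_res, h, map_zero]
  choose W hWU hpW hW using H
  refine QCoh.eq_zero_of_locally_eq_zero Q hWU (fun p hp => Opens.mem_iSup.mpr ⟨⟨p, hp⟩, hpW _⟩) _
    fun p => ?_
  rw [← QCoh.app_res]
  exact hW p _

theorem exists_gens [IsNoetherianRing A] :
    ∃ (E : ℕ) (_ : 0 < E) (r : ℕ) (g : Fin r → A) (_ : ∀ i, g i ∈ 𝒜 E),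
      ⨆ i, Proj.basicOpen 𝒜 (g i) = ⊤ := by
  classical
  obtain ⟨S, hS⟩ := (IsNoetherian.noetherian (HomogeneousIdeal.irrelevant 𝒜).toIdeal :
    (HomogeneousIdeal.irrelevant 𝒜).toIdeal.FG)
  let P := S.biUnion fun a => ((DirectSum.decompose 𝒜 a).support.filter fun i => 0 < i).image
    fun i => ((DirectSum.decompose 𝒜 a i : A), i)
  have hP : ∀ p ∈ P, p.1 ∈ 𝒜 p.2 ∧ 0 < p.2 := by
    intro p hp
    simp only [P, Finset.mem_biUnion, Finset.mem_image, Finset.mem_filter] at hp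
    obtain ⟨a, -, i, ⟨-, hi⟩, rfl⟩ := hp
    exact ⟨SetLike.coe_mem _, hi⟩
  let E := ∏ p ∈ P, p.2
  have hE : 0 < E := Finset.prod_pos fun p hp => (hP p hp).2
  have hdvd : ∀ p ∈ P, p.2 ∣ E := fun p hp => Finset.dvd_prod_of_mem _ hp
  refine ⟨E, hE, P.card, fun i => (P.equivFin.symm i).1.1 ^ (E / (P.equivFin.symm i).1.2),
    fun i => ?_, ?_⟩
  · show (P.equivFin.symm i).1.1 ^ (E / (P.equivFin.symm i).1.2) ∈ 𝒜 E
    obtain ⟨p, hp⟩ := P.equivFin.symm i
    have := SetLike.pow_mem_graded (E / p.2) (hP p hp).1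
    rwa [smul_eq_mul, Nat.div_mul_cancel (hdvd p hp)] at this
  · have h1 : ⨆ p : P, Proj.basicOpen 𝒜 p.1.1 = ⊤ := by
      refine Proj.iSup_basicOpen_eq_top 𝒜 (fun p : P => p.1.1) ?_
      rw [← hS]
      refine Submodule.span_le.mpr fun a ha => ?_
      have h0 : (DirectSum.decompose 𝒜 a 0 : A) = 0 := by
        have := (hS.le (Submodule.subset_span ha) : a ∈ (HomogeneousIdeal.irrelevant 𝒜).toIdeal)
        simpa [GradedRing.proj_apply] using (HomogeneousIdeal.mem_irrelevant_iff 𝒜 a).mp this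
      rw [SetLike.mem_coe, ← DirectSum.sum_support_decompose 𝒜 a]
      refine Ideal.sum_mem _ fun i hi => ?_
      rcases Nat.eq_zero_or_pos i with rfl | hi0
      · rw [h0]; exact Ideal.zero_mem _
      · refine Ideal.subset_span ⟨⟨((DirectSum.decompose 𝒜 a i : A), i), ?_⟩, rfl⟩
        exact Finset.mem_biUnion.mpr ⟨a, ha, Finset.mem_image.mpr
          ⟨i, Finset.mem_filter.mpr ⟨hi, hi0⟩, rfl⟩⟩
    rw [← h1, ← P.equivFin.symm.iSup_comp (g := fun p : P => Proj.basicOpen 𝒜 p.1.1)]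
    refine iSup_congr fun i => Proj.basicOpen_pow 𝒜 _ _ ?_
    obtain ⟨p, hp⟩ := P.equivFin.symm i
    exact Nat.div_pos (Nat.le_of_dvd hE (hdvd p hp)) (hP p hp).2

theorem exists_epi_of_cover (F : (Proj 𝒜).Modules) (hF : Coh.IsCoh F)
    {E : ℕ} (hE : 0 < E) {r : ℕ} (g : Fin r → A) (hg : ∀ i, g i ∈ 𝒜 E)
    (hcov : ⨆ i, Proj.basicOpen 𝒜 (g i) = ⊤) :
    ∃ (κ : Type u) (_ : Finite κ) (d : κ → ℕ) (φ : (∐ fun j : κ => twist 𝒜 (-(d j : ℤ))) ⟶ F),
      Epi φ := by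
  classical
  obtain ⟨hq, hft⟩ := hF
  have hfin : ∀ l, ∃ S : Finset Γ(F, Proj.basicOpen 𝒜 (g l)),
      Submodule.span Γ(Proj 𝒜, Proj.basicOpen 𝒜 (g l))
        (S : Set Γ(F, Proj.basicOpen 𝒜 (g l))) = ⊤ := fun l =>
    (QCoh.finite_sections_of_isFiniteType F (Proj.isAffineOpen_basicOpen 𝒜 _ (hg l) hE)).fg_top
  choose S hS using hfin
  choose m D hD using fun p : Σ l, {s // s ∈ S l} => exists_twistData g hg hE F p.1 p.2.1
  let κ := ULift.{u} (Fin (Fintype.card (Σ l, {s // s ∈ S l})))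
  let e : κ ≃ Σ l, {s // s ∈ S l} := Equiv.ulift.trans (Fintype.equivFin _).symm
  refine ⟨κ, inferInstance, fun k => m (e k) • E, Sigma.desc fun k => (D (e k)).hom hcov, ?_⟩
  refine Preadditive.epi_of_cancel_zero _ fun {Q} π hπ => ?_
  refine eq_zero_of_app_eq_zero π (fun l => Proj.basicOpen 𝒜 (g l))
    (fun l => Proj.isAffineOpen_basicOpen 𝒜 _ (hg l) hE) hcov fun l x => ?_
  refine app_eq_zero_of_span π (hS l) (fun s hs => ?_) x
  obtain ⟨k, hk⟩ := e.surjective ⟨l, s, hs⟩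
  have h0 : (D (e k)).hom hcov ≫ π = 0 := by
    rw [← Sigma.ι_desc (fun k => (D (e k)).hom hcov) k, Category.assoc, hπ, comp_zero]
  have key : ∀ (p : Σ l, {s // s ∈ S l}) (_ : (D p).hom hcov ≫ π = 0),
      π.app (Proj.basicOpen 𝒜 (g p.1)) p.2.1 = 0 := by
    intro p hp
    have hpow : Proj.basicOpen 𝒜 (g p.1) ≤ Proj.basicOpen 𝒜 (g p.1 ^ m p) := by
      rcases m p with _ | m'
      · rw [pow_zero, Proj.basicOpen_one]; exact le_top
      · rw [Proj.basicOpen_pow 𝒜 _ (m' + 1) (Nat.succ_pos m')]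
    rw [← hD p, ← (D p).hom_app_denSec hcov p.1 hpow]
    exact congr(($hp).app _ (denSec (SetLike.pow_mem_graded (m p) (hg p.1)) hpow))
  rw [hk] at h0
  exact key ⟨l, s, hs⟩ h0

/-- A coherent module on `Proj` of a Noetherian graded ring is a quotient of a finite sum of
twists. -/
theorem exists_epi_twists [IsNoetherianRing A] (F : (Proj 𝒜).Modules) (hF : Coh.IsCoh F) :
    ∃ (κ : Type u) (_ : Finite κ) (d : κ → ℕ) (φ : (∐ fun j : κ => twist 𝒜 (-(d j : ℤ))) ⟶ F),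
      Epi φ := by
  obtain ⟨E, hE, r, g, hg, hcov⟩ := exists_gens (𝒜 := 𝒜)
  exact exists_epi_of_cover F hF hE g hg hcov

end Epi

end Groth.Agent.ProjTwist
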