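import Groth.Agent.ProjTwist.Chart
import Groth.Agent.QCoh.Basic
import Groth.Prelude.Def_Pic
import Mathlib.RingTheory.MvPolynomial.Ideal

/-!
`O(n)` is invertible and quasi-coherent when `A₊` is covered by degree one elements; the case of
projective space.
-/

open CategoryTheory AlgebraicGeometry TopologicalSpace Opposite

universe u

noncomputable section

namespace Groth.Agent.ProjTwist

theorem isQuasicoherent_structureModule (X : Scheme.{u}) :
    Coh.IsQCoh (Coh.structureModule X) := by
  refine (QCoh.isQuasicoherent_iff_forall_isAffineOpen _).mpr fun U hU f => ?_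
  let := hU.isLocalization_basicOpen f
  let := (X.presheaf.map (homOfLE (X.basicOpen_le f)).op).hom.toAlgebra
  refine ⟨fun s => ?_, fun t ht => ?_⟩
  · obtain ⟨n, t, ht⟩ := IsLocalization.Away.surj f (show Γ(X, X.basicOpen f) from s)
    refine ⟨n, t, ?_⟩
    rw [mul_comm] at ht
    exact ht.symm
  · obtain ⟨⟨_, n, rfl⟩, hn⟩ :=
      (IsLocalization.map_eq_zero_iff (Submonoid.powers f) Γ(X, X.basicOpen f) t).mp ht
    exact ⟨n, hn⟩

variable {R A : Type u} [CommRing R] [CommRing A] [Algebra R A] {𝒜 : ℕ → Submodule R A}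
  [GradedAlgebra 𝒜] {ι : Type*} (f : ι → A)

/-- `O(n)` is invertible when degree one elements cover. -/
theorem isInvertible_twist (hf : ∀ i, f i ∈ 𝒜 1) (hcov : ⨆ i, Proj.basicOpen 𝒜 (f i) = ⊤)
    (n : ℤ) : PicF.IsInvertible (Twist.twist 𝒜 n) := fun x => by
  obtain ⟨i, hi⟩ := (TopologicalSpace.Opens.mem_iSup).mp (hcov.ge (trivial : x ∈ (⊤ : (Proj 𝒜).Opens)))
  exact ⟨Proj.basicOpen 𝒜 (f i), hi, ⟨restrictTwistIso (hf i) n _ le_rfl⟩⟩

/-- Invertible modules are quasi-coherent. -/
theorem isQCoh_of_isInvertible {X : Scheme.{u}} {L : X.Modules} (hL : PicF.IsInvertible L) :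
    Coh.IsQCoh L := by
  choose U hxU e using hL
  have : ∀ x, (L.restrict (U x).ι).IsQuasicoherent := fun x =>
    haveI := isQuasicoherent_structureModule (U x : Scheme.{u})
    QCoh.isQuasicoherent_of_iso (e x).some.symm
  exact QCoh.isQuasicoherent_of_isOpenCover L U
    (TopologicalSpace.Opens.ext (Set.eq_univ_of_forall fun x =>
      TopologicalSpace.Opens.mem_iSup.mpr ⟨x, hxU x⟩))

open MvPolynomial in
theorem X_mem_polyGrading (n : ℕ) (R : Type u) [CommRing R] (i : Fin (n + 1)) :
    (X i : MvPolynomial (Fin (n + 1)) R) ∈ CohB1.polyGrading n R 1 :=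
  (mem_homogeneousSubmodule 1 _).mpr (isHomogeneous_X R i)

/-- The standard opens `D₊(T_i)` of projective space. -/
abbrev stdOpen (n : ℕ) (R : Type u) [CommRing R] (i : Fin (n + 1)) : (CohB1.ProjSpace n R).Opens :=
  Proj.basicOpen (CohB1.polyGrading n R) (MvPolynomial.X i)

theorem iSup_stdOpen (n : ℕ) (R : Type u) [CommRing R] : ⨆ i, stdOpen n R i = ⊤ := by
  refine Proj.iSup_basicOpen_eq_top _ _ fun p hp => ?_
  replace hp := (HomogeneousIdeal.mem_irrelevant_iff _ p).mp hp
  rw [GradedRing.proj_apply] at hp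
  rw [← Set.image_univ, MvPolynomial.mem_ideal_span_X_image]
  intro m hm
  obtain ⟨i, hi⟩ : ∃ i, m i ≠ 0 := by
    by_contra h
    push Not at h
    obtain rfl : m = 0 := Finsupp.ext h
    rw [MvPolynomial.mem_support_iff] at hm
    have : (DirectSum.decompose (CohB1.polyGrading n R) p 0 : MvPolynomial (Fin (n + 1)) R) =
        MvPolynomial.homogeneousComponent 0 p :=
      MvPolynomial.decomposition.decompose'_apply p 0
    rw [this, MvPolynomial.homogeneousComponent_zero] at hp
    exact hm (MvPolynomial.C_injective _ _ (hp.trans (map_zero _).symm))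
  exact ⟨i, trivial, hi⟩

theorem isAffineOpen_stdOpen (n : ℕ) (R : Type u) [CommRing R] (i : Fin (n + 1)) :
    IsAffineOpen (stdOpen n R i) :=
  Proj.isAffineOpen_basicOpen _ _ (X_mem_polyGrading n R i) one_pos

theorem isInvertible_twistProjSpace (n : ℕ) (R : Type u) [CommRing R] (d : ℤ) :
    PicF.IsInvertible (Twist.twistProjSpace n R d) :=
  isInvertible_twist _ (X_mem_polyGrading n R) (iSup_stdOpen n R) d

theorem isQCoh_twistProjSpace (n : ℕ) (R : Type u) [CommRing R] (d : ℤ) :
    Coh.IsQCoh (Twist.twistProjSpace n R d) :=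
  isQCoh_of_isInvertible (isInvertible_twistProjSpace n R d)

end Groth.Agent.ProjTwist
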