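import Groth.Agent.ProjTwist.SectBasicOpen

/-!
Fractions as functions on `Proj`, and their action on twisting sheaves.
-/

open CategoryTheory AlgebraicGeometry TopologicalSpace Opposite

universe u

noncomputable section

namespace Groth.Agent.ProjTwist

open Twist

variable {R A : Type u} [CommRing R] [CommRing A] [Algebra R A] {𝒜 : ℕ → Submodule R A}
  [GradedAlgebra 𝒜]

/-- The value at a point of a function on an open of `Proj`. -/
def valAt {U : (Proj 𝒜).Opens} (c : Γ(Proj 𝒜, U)) (x : ProjectiveSpectrum 𝒜) (hx : x ∈ U) :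
    Loc 𝒜 x :=
  ((show O (𝒜 := 𝒜) (op U) from c).1 ⟨x, hx⟩).val

theorem valAt_ext {U : (Proj 𝒜).Opens} {c d : Γ(Proj 𝒜, U)}
    (h : ∀ x hx, valAt c x hx = valAt d x hx) : c = d :=
  Subtype.ext (funext fun x => HomogeneousLocalization.val_injective _ (h x.1 x.2))

theorem valAt_mul {U : (Proj 𝒜).Opens} (c d : Γ(Proj 𝒜, U)) (x : ProjectiveSpectrum 𝒜) (hx : x ∈ U) :
    valAt (c * d) x hx = valAt c x hx * valAt d x hx :=
  HomogeneousLocalization.val_mul _ _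

theorem valAt_add {U : (Proj 𝒜).Opens} (c d : Γ(Proj 𝒜, U)) (x : ProjectiveSpectrum 𝒜) (hx : x ∈ U) :
    valAt (c + d) x hx = valAt c x hx + valAt d x hx :=
  HomogeneousLocalization.val_add _ _

theorem valAt_one {U : (Proj 𝒜).Opens} (x : ProjectiveSpectrum 𝒜) (hx : x ∈ U) :
    valAt (1 : Γ(Proj 𝒜, U)) x hx = 1 :=
  HomogeneousLocalization.val_one

theorem valAt_pow {U : (Proj 𝒜).Opens} (c : Γ(Proj 𝒜, U)) (m : ℕ) (x : ProjectiveSpectrum 𝒜)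
    (hx : x ∈ U) : valAt (c ^ m) x hx = valAt c x hx ^ m := by
  induction m with
  | zero => rw [pow_zero, pow_zero, valAt_one]
  | succ m ih => rw [pow_succ, pow_succ, valAt_mul, ih]

theorem valAt_res {U V : (Proj 𝒜).Opens} (h : V ≤ U) (c : Γ(Proj 𝒜, U))
    (x : ProjectiveSpectrum 𝒜) (hx : x ∈ V) :
    valAt ((Proj 𝒜).presheaf.map (homOfLE h).op c) x hx = valAt c x (h hx) := rfl

/-- The function `a / b`, for `a`, `b` of the same degree, where `b` does not vanish. -/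
def fracFun {U : (Proj 𝒜).Opens} {k : ℕ} {a b : A} (ha : a ∈ 𝒜 k) (hb : b ∈ 𝒜 k)
    (h : U ≤ Proj.basicOpen 𝒜 b) : Γ(Proj 𝒜, U) :=
  show O (𝒜 := 𝒜) (op U) from
  (⟨fun x => HomogeneousLocalization.mk ⟨k, ⟨a, ha⟩, ⟨b, hb⟩,
      (Proj.mem_basicOpen 𝒜 b x.1).mp (h x.2)⟩,
    fun x => ⟨U, x.2, 𝟙 _, k, ⟨a, ha⟩, ⟨b, hb⟩,
      fun y => (Proj.mem_basicOpen 𝒜 b y.1).mp (h y.2), fun _ => rfl⟩⟩ :
    ProjectiveSpectrum.StructureSheaf.sectionsSubring (op U))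

theorem valAt_fracFun {U : (Proj 𝒜).Opens} {k : ℕ} {a b : A} (ha : a ∈ 𝒜 k) (hb : b ∈ 𝒜 k)
    (h : U ≤ Proj.basicOpen 𝒜 b) (x : ProjectiveSpectrum 𝒜) (hx : x ∈ U) :
    valAt (fracFun ha hb h) x hx =
      Localization.mk a ⟨b, (Proj.mem_basicOpen 𝒜 b x).mp (h hx)⟩ :=
  have := x.isPrime
  HomogeneousLocalization.val_mk _

theorem fracFun_res {U V : (Proj 𝒜).Opens} (hVU : V ≤ U) {k : ℕ} {a b : A} (ha : a ∈ 𝒜 k)
    (hb : b ∈ 𝒜 k) (h : U ≤ Proj.basicOpen 𝒜 b) :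
    (Proj 𝒜).presheaf.map (homOfLE hVU).op (fracFun ha hb h) = fracFun ha hb (hVU.trans h) := rfl

theorem fracFun_self {U : (Proj 𝒜).Opens} {k : ℕ} {b : A} (hb : b ∈ 𝒜 k)
    (h : U ≤ Proj.basicOpen 𝒜 b) : fracFun hb hb h = 1 :=
  valAt_ext fun x hx => by
    rw [valAt_fracFun, valAt_one]
    exact Localization.mk_self ⟨b, (Proj.mem_basicOpen 𝒜 b x).mp (h hx)⟩

theorem fracFun_mul_fracFun {U : (Proj 𝒜).Opens} {k : ℕ} {a b c : A} (ha : a ∈ 𝒜 k) (hb : b ∈ 𝒜 k)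
    (hc : c ∈ 𝒜 k) (h : U ≤ Proj.basicOpen 𝒜 b) (h' : U ≤ Proj.basicOpen 𝒜 c) :
    fracFun ha hb h * fracFun hb hc h' = fracFun ha hc h' :=
  valAt_ext fun x hx => by
    rw [valAt_mul, valAt_fracFun, valAt_fracFun, valAt_fracFun, Localization.mk_mul,
      Localization.mk_eq_mk_iff, Localization.r_iff_exists]
    exact ⟨1, by simp only [OneMemClass.coe_one, one_mul, Submonoid.coe_mul]; ring⟩

theorem fracFun_pow {U : (Proj 𝒜).Opens} {k : ℕ} {a b : A} (ha : a ∈ 𝒜 k) (hb : b ∈ 𝒜 k)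
    (h : U ≤ Proj.basicOpen 𝒜 b) (m : ℕ) (h' : U ≤ Proj.basicOpen 𝒜 (b ^ m)) :
    fracFun ha hb h ^ m =
      fracFun (SetLike.pow_mem_graded m ha) (SetLike.pow_mem_graded m hb) h' :=
  valAt_ext fun x hx => by
    rw [valAt_pow, valAt_fracFun, valAt_fracFun, Localization.mk_pow]
    rfl

theorem not_mem_of_mk_mul_eq_one (x : ProjectiveSpectrum 𝒜) {a : A}
    {b : x.asHomogeneousIdeal.toIdeal.primeCompl} {c : Loc 𝒜 x}
    (e : Localization.mk a b * c = 1) : a ∉ x.asHomogeneousIdeal := by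
  have := x.isPrime
  have hu : IsUnit (Localization.mk a b : Loc 𝒜 x) := IsUnit.of_mul_eq_one _ e
  rw [Localization.mk_eq_mk'] at hu
  exact (IsLocalization.AtPrime.isUnit_mk'_iff _ x.asHomogeneousIdeal.toIdeal a b).mp hu

/-- The locus where `a / b` is invertible. -/
theorem basicOpen_fracFun {U : (Proj 𝒜).Opens} {k : ℕ} {a b : A} (ha : a ∈ 𝒜 k) (hb : b ∈ 𝒜 k)
    (h : U ≤ Proj.basicOpen 𝒜 b) :
    (Proj 𝒜).basicOpen (fracFun ha hb h) = U ⊓ Proj.basicOpen 𝒜 a := by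
  refine le_antisymm ?_ ?_
  · intro x hx
    refine ⟨(Proj 𝒜).basicOpen_le _ hx, ?_⟩
    have hu0 : IsUnit (fracFun ha hb (((Proj 𝒜).basicOpen_le (fracFun ha hb h)).trans h)) :=
      RingedSpace.isUnit_res_basicOpen (Proj 𝒜).toRingedSpace (fracFun ha hb h)
    obtain ⟨c, hc⟩ := isUnit_iff_exists_inv.mp hu0
    have e := (valAt_mul _ _ (x : ProjectiveSpectrum 𝒜) hx).symm.trans
      ((congrArg (fun s => valAt s (x : ProjectiveSpectrum 𝒜) hx) hc).trans (valAt_one _ hx))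
    have e' := (congrArg (· * valAt c (x : ProjectiveSpectrum 𝒜) hx)
      (valAt_fracFun ha hb (((Proj 𝒜).basicOpen_le _).trans h) (x : ProjectiveSpectrum 𝒜) hx)).symm.trans e
    refine (Proj.mem_basicOpen 𝒜 a x).mpr fun hax => ?_
    exact not_mem_of_mk_mul_eq_one (x : ProjectiveSpectrum 𝒜) e' hax
  · have hu : IsUnit ((Proj 𝒜).presheaf.map
        (homOfLE (inf_le_left : U ⊓ Proj.basicOpen 𝒜 a ≤ U)).op (fracFun ha hb h)) := by
      rw [fracFun_res]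
      exact IsUnit.of_mul_eq_one _ ((fracFun_mul_fracFun ha hb ha (inf_le_left.trans h)
        (inf_le_right)).trans (fracFun_self ha inf_le_right))
    have := (Proj 𝒜).basicOpen_of_isUnit hu
    rw [Scheme.basicOpen_res] at this
    exact this.ge.trans inf_le_right

/-- A homogeneous element as a section of its twist. -/
def numSec {N : ℕ} {a : A} (ha : a ∈ 𝒜 N) (U : (Opens (ProjectiveSpectrum.top 𝒜))ᵒᵖ) :
    sectN (𝒜 := 𝒜) (N : ℤ) U :=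
  resN _ (homOfLE (le_top : U.unop ≤ ⊤)).op (globalOf (𝒜 := 𝒜) (i := N) ⟨a, ha⟩)

theorem numSec_coe {N : ℕ} {a : A} (ha : a ∈ 𝒜 N) (U : (Opens (ProjectiveSpectrum.top 𝒜))ᵒᵖ)
    (x : U.unop) : ((numSec ha U).1 x).1 = algebraMap A (Loc 𝒜 x.1) a :=
  (Localization.mk_one_eq_algebraMap a)

/-- `1 / b` as a section of a negative twist. -/
def denSec {N : ℕ} {b : A} (hb : b ∈ 𝒜 N) {U : (Proj 𝒜).Opens} (h : U ≤ Proj.basicOpen 𝒜 b) :
    sectN (𝒜 := 𝒜) (-(N : ℤ)) (op U) :=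
  ⟨fun x => ⟨Localization.mk 1 ⟨b, (Proj.mem_basicOpen 𝒜 b x.1).mp (h x.2)⟩,
      Submodule.subset_span ⟨0, N, ⟨1, SetLike.GradedOne.one_mem⟩, ⟨b, hb⟩,
        (Proj.mem_basicOpen 𝒜 b x.1).mp (h x.2), by simp, rfl⟩⟩,
    fun x => ⟨U, x.2, 𝟙 _, 0, N, ⟨1, SetLike.GradedOne.one_mem⟩, ⟨b, hb⟩,
      fun y => (Proj.mem_basicOpen 𝒜 b y.1).mp (h y.2), Or.inl (by simp), fun _ => rfl⟩⟩

theorem exists_mulFun {N : ℕ} {U : (Proj 𝒜).Opens} (t : sectN (𝒜 := 𝒜) (-(N : ℤ)) (op U)) {a : A}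
    (ha : a ∈ 𝒜 N) :
    ∃ c : Γ(Proj 𝒜, U), ∀ x hx,
      valAt c x hx = (t.1 ⟨x, hx⟩).1 * algebraMap A (Loc 𝒜 x) a := by
  obtain ⟨c, hc⟩ := exists_O_of_sectN_zero (mulSec (neg_add_cancel (N : ℤ)) t (numSec ha (op U)))
  exact ⟨c, fun x hx => (hc ⟨x, hx⟩).trans ((mulSec_coe _ _ _ ⟨x, hx⟩).trans
    (congrArg _ (numSec_coe ha (op U) ⟨x, hx⟩)))⟩

/-- The function `t * a` for a section `t` of `O(-N)` and `a` of degree `N`. -/
def mulFun {N : ℕ} {U : (Proj 𝒜).Opens} (t : sectN (𝒜 := 𝒜) (-(N : ℤ)) (op U)) {a : A}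
    (ha : a ∈ 𝒜 N) : Γ(Proj 𝒜, U) :=
  (exists_mulFun t ha).choose

theorem valAt_mulFun {N : ℕ} {U : (Proj 𝒜).Opens} (t : sectN (𝒜 := 𝒜) (-(N : ℤ)) (op U)) {a : A}
    (ha : a ∈ 𝒜 N) (x : ProjectiveSpectrum 𝒜) (hx : x ∈ U) :
    valAt (mulFun t ha) x hx = (t.1 ⟨x, hx⟩).1 * algebraMap A (Loc 𝒜 x) a :=
  (exists_mulFun t ha).choose_spec x hx

theorem mulFun_res {N : ℕ} {U V : (Proj 𝒜).Opens} (h : V ≤ U)
    (t : sectN (𝒜 := 𝒜) (-(N : ℤ)) (op U)) {a : A} (ha : a ∈ 𝒜 N) :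
    (Proj 𝒜).presheaf.map (homOfLE h).op (mulFun t ha) =
      mulFun (resN _ (homOfLE h).op t) ha :=
  valAt_ext fun x hx => by
    rw [valAt_res, valAt_mulFun, valAt_mulFun]
    rfl

theorem mulFun_add {N : ℕ} {U : (Proj 𝒜).Opens} (t t' : sectN (𝒜 := 𝒜) (-(N : ℤ)) (op U)) {a : A}
    (ha : a ∈ 𝒜 N) : mulFun (t + t') ha = mulFun t ha + mulFun t' ha :=
  valAt_ext fun x hx => by
    rw [valAt_add, valAt_mulFun, valAt_mulFun, valAt_mulFun, ← add_mul]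
    rfl

theorem mulFun_smul {N : ℕ} {U : (Proj 𝒜).Opens} (c : Γ(Proj 𝒜, U))
    (t : sectN (𝒜 := 𝒜) (-(N : ℤ)) (op U)) {a : A} (ha : a ∈ 𝒜 N) :
    mulFun ((show O (𝒜 := 𝒜) (op U) from c) • t) ha = c * mulFun t ha :=
  valAt_ext fun x hx => (valAt_mulFun _ ha x hx).trans
    ((congrArg (· * algebraMap A (Loc 𝒜 x) a)
      (smul_coe (show O (𝒜 := 𝒜) (op U) from c) t ⟨x, hx⟩)).trans ((mul_assoc _ _ _).trans
        ((congrArg₂ (· * ·) rfl (valAt_mulFun t ha x hx).symm).trans (valAt_mul _ _ x hx).symm)))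

theorem mulFun_denSec {N : ℕ} {a b : A} (ha : a ∈ 𝒜 N) (hb : b ∈ 𝒜 N) {U : (Proj 𝒜).Opens}
    (h : U ≤ Proj.basicOpen 𝒜 b) : mulFun (denSec hb h) ha = fracFun ha hb h :=
  valAt_ext fun x hx => by
    rw [valAt_mulFun, valAt_fracFun]
    show Localization.mk 1 _ * _ = _
    rw [← Localization.mk_one_eq_algebraMap, Localization.mk_mul]
    simp

/-- Changing the element: `t * a = (a / b) * (t * b)`. -/
theorem mulFun_eq {N : ℕ} {U : (Proj 𝒜).Opens} (t : sectN (𝒜 := 𝒜) (-(N : ℤ)) (op U)) {a b : A}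
    (ha : a ∈ 𝒜 N) (hb : b ∈ 𝒜 N) (h : U ≤ Proj.basicOpen 𝒜 b) :
    mulFun t ha = fracFun ha hb h * mulFun t hb :=
  valAt_ext fun x hx => by
    have e : Localization.mk a ⟨b, (Proj.mem_basicOpen 𝒜 b x).mp (h hx)⟩ *
        algebraMap A (Loc 𝒜 x) b = algebraMap A (Loc 𝒜 x) a := by
      rw [← Localization.mk_one_eq_algebraMap, ← Localization.mk_one_eq_algebraMap,
        Localization.mk_mul, Localization.mk_eq_mk_iff, Localization.r_iff_exists]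
      exact ⟨1, by simp only [OneMemClass.coe_one, one_mul, mul_one]; ring⟩
    rw [valAt_mul, valAt_mulFun, valAt_mulFun, valAt_fracFun, mul_left_comm, e]

end Groth.Agent.ProjTwist
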