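import Groth.Agent.ProjTwist.Chart

/-!
`O(0)` is the structure sheaf.
-/

open CategoryTheory AlgebraicGeometry TopologicalSpace Opposite

universe u

noncomputable section

namespace Groth.Agent.ProjTwist

open Twist

variable {R A : Type u} [CommRing R] [CommRing A] [Algebra R A] (𝒜 : ℕ → Submodule R A)
  [GradedAlgebra 𝒜]

/-- The section `1` of `O(0)` over an open. -/
def oneSec (U : (Opens (ProjectiveSpectrum.top 𝒜))ᵒᵖ) : sectN (𝒜 := 𝒜) 0 U :=
  resN 0 (homOfLE (le_top : U.unop ≤ ⊤)).op (globalOf (𝒜 := 𝒜) (i := 0) ⟨1, SetLike.GradedOne.one_mem⟩)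

theorem oneSec_coe (U : (Opens (ProjectiveSpectrum.top 𝒜))ᵒᵖ) (x : U.unop) :
    ((oneSec 𝒜 U).1 x).1 = 1 := Localization.mk_one

theorem bijective_smul_oneSec (U : (Opens (ProjectiveSpectrum.top 𝒜))ᵒᵖ) :
    Function.Bijective (fun c : O U => c • oneSec 𝒜 U) := by
  constructor
  · intro c d h
    refine Subtype.ext (funext fun x => HomogeneousLocalization.val_injective _ ?_)
    have hx : ((c • oneSec 𝒜 U).1 x).1 = ((d • oneSec 𝒜 U).1 x).1 :=
      congrArg (fun s : sectN (𝒜 := 𝒜) 0 U => (s.1 x).1) h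
    rw [smul_coe, smul_coe, oneSec_coe, mul_one, mul_one] at hx
    exact hx
  · intro g
    obtain ⟨c, hc⟩ := exists_O_of_sectN_zero g
    refine ⟨c, sectN_ext fun x => ?_⟩
    refine (smul_coe c (oneSec 𝒜 U) x).trans ?_
    rw [oneSec_coe, mul_one, hc x]

/-- `1`, as a compatible family of sections of `O(0)`. -/
def oneSections : (twist 𝒜 0).val.sections :=
  PresheafOfModules.sectionsMk (fun V => oneSec 𝒜 V) (fun _ _ _ => rfl)

/-- The map `O ⟶ O(0)` sending `1` to `1`. -/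
def oneHom : Coh.structureModule (Proj 𝒜) ⟶ twist 𝒜 0 :=
  (SheafOfModules.unitHomEquiv _).symm (oneSections 𝒜)

theorem isIso_oneHom : IsIso (oneHom 𝒜) := by
  rw [Scheme.Modules.Hom.isIso_iff_isIso_app]
  intro V
  rw [ConcreteCategory.isIso_iff_bijective]
  exact bijective_smul_oneSec 𝒜 (op V)

/-- `O ≅ O(0)`. -/
def twistZeroIso : Coh.structureModule (Proj 𝒜) ≅ twist 𝒜 0 :=
  haveI := isIso_oneHom 𝒜
  asIso (oneHom 𝒜)

end Groth.Agent.ProjTwist
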