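import Groth.Agent.ProjTwist.Invertible
import Groth.Agent.ProjTwist.Zero
import Groth.Agent.ProjTwist.Ratio
import Groth.Agent.KFlat.LTensorMod
import Groth.Agent.PicLaw.Basic
import Groth.Agent.ModFlat.Assoc
import Groth.Agent.KFlat.TensorLocFree
import Groth.Agent.CohDev.TensorCoh

/-!
Tensor calculus for twisting: associativity and symmetry of `⊗`, `O(n) ⊗ O(m) ≅ O(n+m)`, and
tensoring with an invertible module is exact.
-/

open CategoryTheory CategoryTheory.Limits AlgebraicGeometry TopologicalSpace Opposite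

universe u

noncomputable section

namespace Groth.Agent.ProjTwist

variable {X : Scheme.{u}}

/-- `(L ⊗ M) ⊗ N ≅ L ⊗ (M ⊗ N)` -/
def tensAssoc (L M N : X.Modules) :
    CohB1.tensorMod (CohB1.tensorMod L M) N ≅ CohB1.tensorMod L (CohB1.tensorMod M N) :=
  ModFlat.assocApp (O := X.sheaf) L M N

/-- `L ⊗ M ≅ M ⊗ L` -/
def tensComm (L M : X.Modules) : CohB1.tensorMod L M ≅ CohB1.tensorMod M L :=
  ((KFlat.tensorBiFlipIso (O := X.sheaf)).app M).app L

/-- functoriality of `⊗` in isomorphisms -/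
def tensCongr {L L' M M' : X.Modules} (e : L ≅ L') (e' : M ≅ M') :
    CohB1.tensorMod L M ≅ CohB1.tensorMod L' M' :=
  ((DCoh.tensorBi (X := X)).mapIso e).app M ≪≫ ((DCoh.tensorBi (X := X)).obj L').mapIso e'

/-- `O ⊗ M ≅ M` -/
def oneTens (M : X.Modules) : CohB1.tensorMod (Coh.structureModule X) M ≅ M :=
  KFlat.TensorLocFree.unitTensorIso M

/-- `M ⊗ O ≅ M` -/
def tensOne (M : X.Modules) : CohB1.tensorMod M (Coh.structureModule X) ≅ M :=
  tensComm _ _ ≪≫ oneTens M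

theorem isFinLocFreeOfRank_one {L : X.Modules} (hL : PicF.IsInvertible L) :
    FlatMod.IsFinLocFreeOfRank 1 L := fun x => by
  obtain ⟨U, hx, ⟨φ⟩⟩ := hL x
  exact ⟨U, hx, ⟨φ ≪≫
    (coproductUniqueIso fun _ : Fin 1 => Coh.structureModule (U : Scheme.{u})).symm⟩⟩

/-- tensoring with an invertible module on the right is exact -/
theorem shortExact_tensor {L : X.Modules} (hL : PicF.IsInvertible L) {S : ShortComplex X.Modules}
    (hS : S.ShortExact) : (S.map ((DCoh.tensorBi (X := X)).flip.obj L)).ShortExact := by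
  let e : (DCoh.tensorBi (X := X)).flip.obj L ≅ (DCoh.tensorBi (X := X)).obj L :=
    (KFlat.tensorBiFlipIso (O := X.sheaf)).app L
  exact ShortComplex.shortExact_of_iso (S.mapNatIso e).symm
    (CohDev.tens_shortExact (isFinLocFreeOfRank_one hL) hS)

theorem isCoh_tensor [IsNoetherian X] {L F : X.Modules} (hL : PicF.IsInvertible L)
    (hF : Coh.IsCoh F) : Coh.IsCoh (CohB1.tensorMod F L) :=
  CohDev.isCoh_of_iso (tensComm L F) (CohDev.isCoh_tens (isFinLocFreeOfRank_one hL) hF)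

open Twist Groth.Agent.QCoh Groth.Agent.Props.GenLocus Groth.Agent.Props.GenTensor

variable {R A : Type u} [CommRing R] [CommRing A] [Algebra R A] {𝒜 : ℕ → Submodule R A}
  [GradedAlgebra 𝒜]

/-- `f ^ n` as a section of `O(n)` over `D₊(f)` -/
def powGen {f : A} (hf : f ∈ 𝒜 1) (n : ℤ) : Γ(twist 𝒜 n, Proj.basicOpen 𝒜 f) :=
  unitSec hf n (op (Proj.basicOpen 𝒜 f)) fun x => not_mem_of_le_basicOpen le_rfl x

theorem isGen_powGen {f : A} (hf : f ∈ 𝒜 1) (n : ℤ) :
    IsGen (twist 𝒜 n) (Proj.basicOpen 𝒜 f) (powGen hf n) := fun V h => by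
  exact bijective_smul_unitSec hf n (op V)
    fun x => not_mem_of_le_basicOpen h x

/-- product of sections of twists, typed in the modules -/
def mulTw {n m : ℤ} {U : (Proj 𝒜).Opens} (s : Γ(twist 𝒜 n, U)) (t : Γ(twist 𝒜 m, U)) :
    Γ(twist 𝒜 (n + m), U) :=
  mulSec (rfl : n + m = n + m) (U := op U) s t

theorem mulTw_smul {n m : ℤ} {U : (Proj 𝒜).Opens} (a b : Γ(Proj 𝒜, U)) (s : Γ(twist 𝒜 n, U))
    (t : Γ(twist 𝒜 m, U)) : mulTw (a • s) (b • t) = (a * b) • mulTw s t := by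
  refine sectN_ext fun x => ?_
  refine (mulSec_coe _ _ _ x).trans ?_
  refine (congrArg₂ (· * ·) (smul_coe _ _ x) (smul_coe _ _ x)).trans ?_
  refine Eq.trans ?_ (smul_coe _ _ x).symm
  refine Eq.trans ?_ (congrArg₂ (· * ·) (valAt_mul a b x.1 x.2).symm (mulSec_coe _ _ _ x).symm)
  exact mul_mul_mul_comm _ _ _ _

theorem res_mulTw {n m : ℤ} {U V : (Proj 𝒜).Opens} (h : V ≤ U) (s : Γ(twist 𝒜 n, U))
    (t : Γ(twist 𝒜 m, U)) :
    res (twist 𝒜 (n + m)) h (mulTw s t) = mulTw (res _ h s) (res _ h t) := rfl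

theorem mulTw_powGen {f : A} (hf : f ∈ 𝒜 1) (n m : ℤ) :
    mulTw (powGen hf n) (powGen hf m) = powGen hf (n + m) := by
  refine sectN_ext fun x => ?_
  refine (mulSec_coe _ _ _ x).trans ?_
  refine (congrArg₂ (· * ·) (unitSec_coe hf n _ _ x) (unitSec_coe hf m _ _ x)).trans ?_
  refine Eq.trans ?_ (unitSec_coe hf (n + m) _ _ x).symm
  rw [zpow_add, Units.val_mul]

/-- `O(n) ⊗ O(m) ≅ O(n + m)` when degree one elements cover -/
theorem nonempty_twist_tensor {ι : Type} (f : ι → A) (hf : ∀ i, f i ∈ 𝒜 1)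
    (hcov : ⨆ i, Proj.basicOpen 𝒜 (f i) = ⊤) (n m : ℤ) :
    Nonempty (CohB1.tensorMod (twist 𝒜 n) (twist 𝒜 m) ≅ twist 𝒜 (n + m)) := by
  refine PicLaw.nonempty_iso_of_transition (fun i => Proj.basicOpen 𝒜 (f i))
    (fun x => Opens.mem_iSup.mp (hcov.ge trivial))
    (fun i => tmul (powGen (hf i) n) (powGen (hf i) m))
    (fun i => isGen_tmul (isGen_powGen (hf i) n) (isGen_powGen (hf i) m))
    (fun i => powGen (hf i) (n + m)) (fun i => isGen_powGen (hf i) (n + m)) ?_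
  intro i j V hi hj
  obtain ⟨a, ha, -⟩ := (isGen_powGen (hf i) n).exists_eq hi (res _ hj (powGen (hf j) n))
  obtain ⟨b, hb, -⟩ := (isGen_powGen (hf i) m).exists_eq hi (res _ hj (powGen (hf j) m))
  refine ⟨a * b, ?_, ?_⟩
  · rw [res_tmul, res_tmul, ha, hb, tmul_smul_left, tmul_smul_right, smul_smul]
  · rw [← mulTw_powGen, ← mulTw_powGen, res_mulTw, res_mulTw, ha, hb, mulTw_smul]

theorem nonempty_twistProjSpace_tensor (n : ℕ) (R : Type u) [CommRing R] (a b : ℤ) :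
    Nonempty (CohB1.tensorMod (twistProjSpace n R a) (twistProjSpace n R b) ≅
      twistProjSpace n R (a + b)) :=
  nonempty_twist_tensor _ (X_mem_polyGrading n R) (iSup_stdOpen n R) a b

end Groth.Agent.ProjTwist
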