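import Groth.Agent.ProjTwist.Sect
import Mathlib.RingTheory.GradedAlgebra.Radical

/-!
Sections of `O(n)` over `D₊(f)`: the degree `n` part of `A_f`.
-/

open CategoryTheory AlgebraicGeometry TopologicalSpace Opposite

universe u

noncomputable section

namespace Groth.Agent.ProjTwist

open Twist

variable {R A : Type u} [CommRing R] [CommRing A] [Algebra R A] {𝒜 : ℕ → Submodule R A}
  [GradedAlgebra 𝒜]

variable (𝒜) in
/-- `D₊(f)` as an open of `ProjectiveSpectrum.top`. -/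
abbrev dPlus (f : A) : Opens (ProjectiveSpectrum.top 𝒜) := ProjectiveSpectrum.basicOpen 𝒜 f

/-- The annihilator of a homogeneous element is a homogeneous ideal. -/
theorem isHomogeneous_annihilator {i : ℕ} {a : A} (ha : a ∈ 𝒜 i) :
    Ideal.IsHomogeneous 𝒜 (Submodule.annihilator (Ideal.span {a} : Ideal A)) := by
  intro j b hb
  rw [Submodule.mem_annihilator_span_singleton, smul_eq_mul] at hb ⊢
  have e := DirectSum.coe_decompose_mul_add_of_right_mem 𝒜 (a := b) (i := j) ha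
  rw [hb] at e
  simpa using e.symm

/-- A homogeneous element vanishing in the localizations at all points of `D₊(f)` is killed by a
power of `f`. -/
theorem exists_pow_mul_eq_zero {i d : ℕ} {a f : A} (ha : a ∈ 𝒜 i) (hf : f ∈ 𝒜 d) (hd : 0 < d)
    (h : ∀ x : ProjectiveSpectrum 𝒜, f ∉ x.asHomogeneousIdeal → algebraMap A (Loc 𝒜 x) a = 0) :
    ∃ m : ℕ, f ^ m * a = 0 := by
  by_contra hc
  push Not at hc
  have hJ := isHomogeneous_annihilator (𝒜 := 𝒜) ha
  have hnot : f ∉ (Submodule.annihilator (Ideal.span {a} : Ideal A)).radical := by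
    rintro ⟨m, hm⟩
    rw [Submodule.mem_annihilator_span_singleton, smul_eq_mul] at hm
    exact hc m hm
  rw [hJ.radical_eq, Submodule.mem_sInf] at hnot
  push Not at hnot
  obtain ⟨p, ⟨hp, hle, hpp⟩, hfp⟩ := hnot
  have hirr : ¬ HomogeneousIdeal.irrelevant 𝒜 ≤ ⟨p, hp⟩ := fun hh => hfp (hh (by
    rw [HomogeneousIdeal.mem_irrelevant_iff, GradedRing.proj_apply,
      DirectSum.decompose_of_mem_ne 𝒜 hf hd.ne']))
  obtain ⟨⟨c, hc'⟩, hca⟩ := (IsLocalization.map_eq_zero_iff (Ideal.primeCompl (P := p)) _ a).mp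
    (h ⟨⟨p, hp⟩, hpp, hirr⟩ hfp)
  exact hc' (hle (by
    rw [Submodule.mem_annihilator_span_singleton, smul_eq_mul]; exact hca))

/-- Two homogeneous fractions agreeing at all points of `D₊(f)`. -/
theorem exists_pow_mul_eq_of_frac_eq {i d : ℕ} {a b f : A} (ha : a ∈ 𝒜 i) (hb : b ∈ 𝒜 i)
    (hf : f ∈ 𝒜 d) (hd : 0 < d) (j : ℕ)
    (h : ∀ (x : ProjectiveSpectrum 𝒜) (hx : f ∉ x.asHomogeneousIdeal),
      (Localization.mk a ⟨f ^ j, not_mem_pow x hx j⟩ : Loc 𝒜 x) =
        Localization.mk b ⟨f ^ j, not_mem_pow x hx j⟩) :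
    ∃ m : ℕ, f ^ m * a = f ^ m * b := by
  obtain ⟨m, hm⟩ := exists_pow_mul_eq_zero (sub_mem ha hb) hf hd fun x hx => by
    have e := h x hx
    rw [Localization.mk_eq_mk'_apply, Localization.mk_eq_mk'_apply,
      IsLocalization.mk'_eq_iff_eq] at e
    rw [map_sub, sub_eq_zero]
    rw [map_mul, map_mul] at e
    exact (IsLocalization.map_units (Loc 𝒜 x) ⟨f ^ j, not_mem_pow x hx j⟩).mul_left_cancel e
  exact ⟨m, by rwa [mul_sub, sub_eq_zero] at hm⟩

/-- Every section of `O(n)` over `D₊(f)` is a single fraction `a / f ^ j`, when `f` is a multiple of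
a degree one element. -/
theorem exists_frac {d : ℕ} {f g h : A} (hf : f ∈ 𝒜 d) (hd : 0 < d) (hg : g ∈ 𝒜 1)
    (hh : h ∈ 𝒜 (d - 1)) (hfg : f = g * h) (n : ℤ)
    (s : sectN (𝒜 := 𝒜) n (op (dPlus 𝒜 f))) :
    ∃ (i j : ℕ) (a : A), a ∈ 𝒜 i ∧ (i : ℤ) = (j : ℤ) * d + n ∧
      ∀ x : (dPlus 𝒜 f),
        (s.1 x).1 = Localization.mk a ⟨f ^ j, not_mem_pow x.1 x.2 j⟩ := by
  have hU : ∀ x : (dPlus 𝒜 f),
      g ∉ x.1.asHomogeneousIdeal := fun x hx => by
    refine x.2 ?_
    exact hfg.symm ▸ (Ideal.mul_mem_right h _ hx : g * h ∈ x.1.asHomogeneousIdeal.toIdeal)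
  obtain ⟨c, hc⟩ := (bijective_smul_unitSec hg n (op (dPlus 𝒜 f)) hU).2 s
  obtain ⟨z, hz⟩ :=
    (ConcreteCategory.bijective_of_isIso (Proj.basicOpenIsoAway 𝒜 f hf hd).hom).2 c
  obtain ⟨j, a, ha, rfl⟩ := HomogeneousLocalization.Away.mk_surjective 𝒜 hf z
  refine ⟨j • d + (n.toNat + (-n).toNat * (d - 1)), j + (-n).toNat,
    a * (g ^ n.toNat * h ^ (-n).toNat),
    SetLike.mul_mem_graded ha (SetLike.mul_mem_graded
      (by simpa using SetLike.pow_mem_graded n.toNat hg)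
      (by simpa [mul_comm] using SetLike.pow_mem_graded (-n).toNat hh)), ?_, fun x => ?_⟩
  · have : (1 : ℕ) ≤ d := hd
    push_cast [Nat.cast_sub this]
    rw [show ((j • d : ℕ) : ℤ) = (j : ℤ) * d by simp]
    linarith [Int.toNat_sub_toNat_neg n, show (n.toNat : ℤ) - ((-n).toNat : ℤ) = n by omega]
  · subst hc
    refine (smul_coe c (unitSec hg n _ hU) x).trans ?_
    have e : (c.1 x).val = Localization.mk a ⟨f ^ j, not_mem_pow x.1 x.2 j⟩ := by
      rw [← hz]
      refine (ProjectiveSpectrum.Proj.awayToSection_apply 𝒜 f _ x).trans ?_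
      rw [HomogeneousLocalization.Away.val_mk, Localization.mk_eq_mk', IsLocalization.map_mk',
        Localization.mk_eq_mk']
      rfl
    rw [e]
    refine (congrArg (_ * ·) (unitAt_zpow x.1 (hU x) n.toNat (-n).toNat n (by omega))).trans ?_
    refine mk_mul_mk.trans ?_
    rw [Localization.mk_eq_mk_iff, Localization.r_iff_exists]
    refine ⟨1, ?_⟩
    simp only [OneMemClass.coe_one, one_mul, Submonoid.coe_mul, hfg]
    ring

end Groth.Agent.ProjTwist
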