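import Groth.Agent.ProjTwist.Frac

/-!
Sections of the twisting sheaves: multiplication, and the trivialisation over `D₊(f)`, `deg f = 1`.
-/

open CategoryTheory AlgebraicGeometry TopologicalSpace Opposite

universe u

noncomputable section

namespace Groth.Agent.ProjTwist

open Twist

variable {R A : Type u} [CommRing R] [CommRing A] [Algebra R A] {𝒜 : ℕ → Submodule R A}
  [GradedAlgebra 𝒜]

/-- Product of local sections of `O(n)` and `O(m)`. -/
def mulSec {n m l : ℤ} (h : n + m = l) {U : (Opens (ProjectiveSpectrum.top 𝒜))ᵒᵖ}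
    (s : sectN (𝒜 := 𝒜) n U) (t : sectN (𝒜 := 𝒜) m U) : sectN (𝒜 := 𝒜) l U :=
  ⟨fun x => ⟨(s.1 x).1 * (t.1 x).1, h ▸ mul_mem_twistAt (s.1 x).2 (t.1 x).2⟩, fun x => by
    obtain ⟨V, hV, iV, i, j, a, p, hp, ha, wa⟩ := s.2 x
    obtain ⟨W, hW, iW, i', j', b, q, hq, hb, wb⟩ := t.2 x
    refine ⟨V ⊓ W, ⟨hV, hW⟩, Opens.infLELeft V W ≫ iV, i + i', j + j',
      ⟨_, SetLike.mul_mem_graded a.2 b.2⟩, ⟨_, SetLike.mul_mem_graded p.2 q.2⟩,
      fun y hy => (y.1.isPrime.mem_or_mem hy).elim (hp ⟨y.1, y.2.1⟩) (hq ⟨y.1, y.2.2⟩), ?_, fun y => ?_⟩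
    · rcases ha with ha | ha
      · rcases hb with hb | hb
        · exact Or.inl (by push_cast; omega)
        · exact Or.inr (by simp [hb])
      · exact Or.inr (by simp [ha])
    · have e1 := wa ⟨y.1, y.2.1⟩
      have e2 := wb ⟨y.1, y.2.2⟩
      exact (congrArg₂ (· * ·) e1 e2).trans mk_mul_mk⟩

theorem mulSec_coe {n m l : ℤ} (h : n + m = l) {U : (Opens (ProjectiveSpectrum.top 𝒜))ᵒᵖ}
    (s : sectN (𝒜 := 𝒜) n U) (t : sectN (𝒜 := 𝒜) m U) (x : U.unop) :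
    (((mulSec h s t).1 x : twistAt 𝒜 l x.1) : Loc 𝒜 x.1) = (s.1 x).1 * (t.1 x).1 := rfl

theorem sectN_ext {n : ℤ} {U : (Opens (ProjectiveSpectrum.top 𝒜))ᵒᵖ} {s t : sectN (𝒜 := 𝒜) n U}
    (h : ∀ x : U.unop, (s.1 x).1 = (t.1 x).1) : s = t :=
  Subtype.ext (funext fun x => Subtype.ext (h x))

theorem smul_coe {n : ℤ} {U : (Opens (ProjectiveSpectrum.top 𝒜))ᵒᵖ} (c : O U)
    (s : sectN (𝒜 := 𝒜) n U) (x : U.unop) :
    (((c • s).1 x : twistAt 𝒜 n x.1) : Loc 𝒜 x.1) = (c.1 x).val * (s.1 x).1 :=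
  coe_smul_val n x.1 (c.1 x) (s.1 x)

/-- The generator `f ^ n` of `O(n)` over an open where `f` does not vanish. -/
def unitSec {f : A} (hf : f ∈ 𝒜 1) (n : ℤ) (U : (Opens (ProjectiveSpectrum.top 𝒜))ᵒᵖ)
    (hU : ∀ x : U.unop, f ∉ x.1.asHomogeneousIdeal) : sectN (𝒜 := 𝒜) n U :=
  ⟨fun x => ⟨_, zpow_mem_twistAt hf n x.1 (hU x)⟩, fun x =>
    ⟨U.unop, x.2, 𝟙 _, n.toNat, (-n).toNat,
      ⟨f ^ n.toNat, by simpa using SetLike.pow_mem_graded n.toNat hf⟩,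
      ⟨f ^ (-n).toNat, by simpa using SetLike.pow_mem_graded (-n).toNat hf⟩,
      fun y => not_mem_pow y.1 (hU y) _, Or.inl (show (n.toNat : ℤ) = (-n).toNat + n by omega),
      fun y => unitAt_zpow y.1 (hU y) _ _ n (by omega)⟩⟩

theorem unitSec_coe {f : A} (hf : f ∈ 𝒜 1) (n : ℤ) (U : (Opens (ProjectiveSpectrum.top 𝒜))ᵒᵖ)
    (hU : ∀ x : U.unop, f ∉ x.1.asHomogeneousIdeal) (x : U.unop) :
    (((unitSec hf n U hU).1 x : twistAt 𝒜 n x.1) : Loc 𝒜 x.1) =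
      ((unitAt x.1 (hU x) ^ n : (Loc 𝒜 x.1)ˣ) : Loc 𝒜 x.1) := rfl

theorem resN_unitSec {f : A} (hf : f ∈ 𝒜 1) (n : ℤ) {U V : (Opens (ProjectiveSpectrum.top 𝒜))ᵒᵖ}
    (i : U ⟶ V) (hU : ∀ x : U.unop, f ∉ x.1.asHomogeneousIdeal) :
    resN n i (unitSec hf n U hU) = unitSec hf n V (fun x => hU (i.unop x)) := rfl

/-- A section of `O(0)` is a section of the structure sheaf. -/
theorem exists_O_of_sectN_zero {U : (Opens (ProjectiveSpectrum.top 𝒜))ᵒᵖ}
    (g : sectN (𝒜 := 𝒜) 0 U) : ∃ c : O U, ∀ x : U.unop, (c.1 x).val = (g.1 x).1 := by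
  choose c hc using fun x : U.unop => exists_val_eq_of_mem_twistAt_zero (g.1 x).2
  suffices hp : (ProjectiveSpectrum.StructureSheaf.isLocallyFraction 𝒜).pred c from
    ⟨(⟨c, hp⟩ : ProjectiveSpectrum.StructureSheaf.sectionsSubring U), hc⟩
  intro x
  obtain ⟨V, hV, iV, i, j, a, p, hp, ha, wa⟩ := g.2 x
  rcases ha with ha | ha
  · obtain rfl : i = j := by omega
    refine ⟨V, hV, iV, i, a, p, hp, ?_⟩
    intro y
    refine HomogeneousLocalization.val_injective _ ?_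
    refine ((hc (iV y)).trans (wa y)).trans ?_
    have := y.1.isPrime
    exact (HomogeneousLocalization.val_mk (⟨i, a, p, hp y⟩ : HomogeneousLocalization.NumDenSameDeg 𝒜 y.1.asHomogeneousIdeal.toIdeal.primeCompl)).symm
  · refine ⟨V, hV, iV, j, ⟨0, zero_mem _⟩, p, hp, ?_⟩
    intro y
    refine HomogeneousLocalization.val_injective _ ?_
    refine ((hc (iV y)).trans (wa y)).trans ?_
    refine Eq.trans ?_ (HomogeneousLocalization.val_mk _).symm
    simp [ha, Localization.mk_zero]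

/-- Over an open where the degree one element `f` does not vanish, `O(n)` is free on `f ^ n`. -/
theorem bijective_smul_unitSec {f : A} (hf : f ∈ 𝒜 1) (n : ℤ)
    (U : (Opens (ProjectiveSpectrum.top 𝒜))ᵒᵖ) (hU : ∀ x : U.unop, f ∉ x.1.asHomogeneousIdeal) :
    Function.Bijective (fun c : O U => c • unitSec hf n U hU) := by
  constructor
  · intro c d h
    refine Subtype.ext (funext fun x => HomogeneousLocalization.val_injective _ ?_)
    have hx : ((c • unitSec hf n U hU).1 x).1 = ((d • unitSec hf n U hU).1 x).1 :=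
      congrArg (fun s : sectN (𝒜 := 𝒜) n U => (s.1 x).1) h
    rw [smul_coe, smul_coe, unitSec_coe] at hx
    exact (Units.isUnit _).mul_right_cancel hx
  · intro g
    obtain ⟨c, hc⟩ := exists_O_of_sectN_zero (mulSec (add_neg_cancel n) g (unitSec hf (-n) U hU))
    refine ⟨c, sectN_ext fun x => ?_⟩
    refine (smul_coe c (unitSec hf n U hU) x).trans ?_
    rw [hc x]
    refine (mul_assoc (g.1 x).1 ((unitAt x.1 (hU x) ^ (-n) : (Loc 𝒜 x.1)ˣ) : Loc 𝒜 x.1)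
      ((unitAt x.1 (hU x) ^ n : (Loc 𝒜 x.1)ˣ) : Loc 𝒜 x.1)).trans ?_
    rw [← Units.val_mul, ← zpow_add, neg_add_cancel, zpow_zero, Units.val_one, mul_one]

end Groth.Agent.ProjTwist
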