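import Groth.Agent.ProjTwist.Sect

/-!
`O(n)` is trivial over `D₊(f)` for `f` of degree one.
-/

open CategoryTheory AlgebraicGeometry TopologicalSpace Opposite

universe u

noncomputable section

namespace Groth.Agent.ProjTwist

open Twist

variable {R A : Type u} [CommRing R] [CommRing A] [Algebra R A] {𝒜 : ℕ → Submodule R A}
  [GradedAlgebra 𝒜]

theorem not_mem_of_le_basicOpen {f : A} {U : (Proj 𝒜).Opens} (hU : U ≤ Proj.basicOpen 𝒜 f)
    (x : U) : f ∉ (show ProjectiveSpectrum 𝒜 from x.1).asHomogeneousIdeal :=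
  (Proj.mem_basicOpen 𝒜 f x.1).mp (hU x.2)

/-- The frame `f ^ n` of `O(n)` restricted to an open contained in `D₊(f)`, as a compatible family. -/
def frameSections {f : A} (hf : f ∈ 𝒜 1) (n : ℤ) (U : (Proj 𝒜).Opens)
    (hU : U ≤ Proj.basicOpen 𝒜 f) : ((twist 𝒜 n).restrict U.ι).val.sections :=
  PresheafOfModules.sectionsMk
    (fun V => unitSec hf n (op (U.ι ''ᵁ V.unop))
      (fun x => not_mem_of_le_basicOpen hU ⟨x.1, U.ι_image_le V.unop x.2⟩))
    (fun _ _ _ => rfl)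

/-- The map `O_U ⟶ O(n)|_U` sending `1` to `f ^ n`. -/
def frameHom {f : A} (hf : f ∈ 𝒜 1) (n : ℤ) (U : (Proj 𝒜).Opens)
    (hU : U ≤ Proj.basicOpen 𝒜 f) :
    Coh.structureModule (U : Scheme.{u}) ⟶ (twist 𝒜 n).restrict U.ι :=
  (SheafOfModules.unitHomEquiv _).symm (frameSections hf n U hU)

theorem isIso_frameHom {f : A} (hf : f ∈ 𝒜 1) (n : ℤ) (U : (Proj 𝒜).Opens)
    (hU : U ≤ Proj.basicOpen 𝒜 f) : IsIso (frameHom hf n U hU) := by
  rw [Scheme.Modules.Hom.isIso_iff_isIso_app]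
  intro V
  rw [ConcreteCategory.isIso_iff_bijective]
  exact (bijective_smul_unitSec hf n (op (U.ι ''ᵁ V))
      (fun x => not_mem_of_le_basicOpen hU ⟨x.1, U.ι_image_le V x.2⟩)).comp
    (ConcreteCategory.bijective_of_isIso (U.ι.appIso V).inv)

/-- `O(n)|_U ≅ O_U` for `U ⊆ D₊(f)`, `deg f = 1`. -/
def restrictTwistIso {f : A} (hf : f ∈ 𝒜 1) (n : ℤ) (U : (Proj 𝒜).Opens)
    (hU : U ≤ Proj.basicOpen 𝒜 f) :
    (twist 𝒜 n).restrict U.ι ≅ Coh.structureModule (U : Scheme.{u}) :=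
  haveI := isIso_frameHom hf n U hU
  (asIso (frameHom hf n U hU)).symm

end Groth.Agent.ProjTwist
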