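import Groth.Prelude.Def_Twist2

/-!
Fractions of given degree: the generator `f ^ n` of `O(n)` over `D₊(f)` for `f` of degree one.
-/

open CategoryTheory AlgebraicGeometry TopologicalSpace Opposite

universe u

noncomputable section

namespace Groth.Agent.ProjTwist

open Twist

variable {R A : Type u} [CommRing R] [CommRing A] [Algebra R A] {𝒜 : ℕ → Submodule R A}
  [GradedAlgebra 𝒜]

/-- A degree one element not in `x`, as a unit of the localization at `x`. -/
def unitAt {f : A} (x : ProjectiveSpectrum 𝒜) (hx : f ∉ x.asHomogeneousIdeal) : (Loc 𝒜 x)ˣ :=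
  (IsLocalization.map_units (M := x.asHomogeneousIdeal.toIdeal.primeCompl) (Loc 𝒜 x) ⟨f, hx⟩).unit

theorem val_unitAt {f : A} (x : ProjectiveSpectrum 𝒜) (hx : f ∉ x.asHomogeneousIdeal) :
    (unitAt x hx : Loc 𝒜 x) = algebraMap A (Loc 𝒜 x) f := rfl

theorem not_mem_pow {f : A} (x : ProjectiveSpectrum 𝒜) (hx : f ∉ x.asHomogeneousIdeal) (j : ℕ) :
    f ^ j ∉ x.asHomogeneousIdeal := fun h => hx (x.isPrime.mem_of_pow_mem j h)

theorem unitAt_zpow {f : A} (x : ProjectiveSpectrum 𝒜) (hx : f ∉ x.asHomogeneousIdeal) (i j : ℕ)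
    (n : ℤ) (h : (i : ℤ) = j + n) :
    ((unitAt x hx ^ n : (Loc 𝒜 x)ˣ) : Loc 𝒜 x) =
      Localization.mk (f ^ i) ⟨f ^ j, not_mem_pow x hx j⟩ := by
  have e : (unitAt x hx ^ i : (Loc 𝒜 x)ˣ) = unitAt x hx ^ j * unitAt x hx ^ n := by
    rw [← zpow_natCast, ← zpow_natCast, ← zpow_add, ← h]
  have e' := congrArg Units.val e
  simp only [Units.val_pow_eq_pow_val, Units.val_mul, val_unitAt, ← map_pow] at e'
  rw [Localization.mk_eq_mk', IsLocalization.eq_mk'_iff_mul_eq, e', mul_comm]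

theorem mk_mul_mk {x : ProjectiveSpectrum 𝒜} {a b : A}
    {s t : x.asHomogeneousIdeal.toIdeal.primeCompl} :
    (Localization.mk a s * Localization.mk b t : Loc 𝒜 x) = Localization.mk (a * b) (s * t) :=
  Localization.mk_mul a b s t

/-- `f ^ n` lies in the degree `n` fractions. -/
theorem zpow_mem_twistAt {f : A} (hf : f ∈ 𝒜 1) (n : ℤ) (x : ProjectiveSpectrum 𝒜)
    (hx : f ∉ x.asHomogeneousIdeal) :
    ((unitAt x hx ^ n : (Loc 𝒜 x)ˣ) : Loc 𝒜 x) ∈ twistAt 𝒜 n x := by
  have hn : (n.toNat : ℤ) = ((-n).toNat : ℤ) + n := by omega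
  refine Submodule.subset_span ⟨n.toNat, (-n).toNat,
    ⟨f ^ n.toNat, by simpa using SetLike.pow_mem_graded n.toNat hf⟩,
    ⟨f ^ (-n).toNat, by simpa using SetLike.pow_mem_graded (-n).toNat hf⟩,
    not_mem_pow x hx _, hn, unitAt_zpow x hx _ _ n hn⟩

/-- Multiplicativity of the degree-`n` fractions. -/
theorem mul_mem_twistAt {n m : ℤ} {x : ProjectiveSpectrum 𝒜} {p q : Loc 𝒜 x}
    (hp : p ∈ twistAt 𝒜 n x) (hq : q ∈ twistAt 𝒜 m x) : p * q ∈ twistAt 𝒜 (n + m) x := by
  induction hp using Submodule.span_induction with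
  | zero => simp
  | add a b _ _ ha hb => rw [add_mul]; exact add_mem ha hb
  | smul c a _ ha => rw [smul_mul_assoc]; exact Submodule.smul_mem _ _ ha
  | mem p hp =>
    obtain ⟨i, j, a, s, hs, hij, rfl⟩ := hp
    induction hq using Submodule.span_induction with
    | zero => simp
    | add a b _ _ ha hb => rw [mul_add]; exact add_mem ha hb
    | smul c a _ ha => rw [mul_smul_comm]; exact Submodule.smul_mem _ _ ha
    | mem q hq =>
      obtain ⟨i', j', a', s', hs', hij', rfl⟩ := hq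
      exact Submodule.subset_span ⟨i + i', j + j', ⟨_, SetLike.mul_mem_graded a.2 a'.2⟩,
        ⟨_, SetLike.mul_mem_graded s.2 s'.2⟩, fun h => (x.isPrime.mem_or_mem h).elim hs hs',
        by push_cast; omega, mk_mul_mk⟩

/-- Degree zero fractions come from the homogeneous localization. -/
theorem exists_val_eq_of_mem_twistAt_zero {x : ProjectiveSpectrum 𝒜} {q : Loc 𝒜 x}
    (hq : q ∈ twistAt 𝒜 0 x) : ∃ c : A0 𝒜 x, c.val = q := by
  induction hq using Submodule.span_induction with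
  | zero => exact ⟨0, HomogeneousLocalization.val_zero⟩
  | add a b _ _ ha hb =>
    obtain ⟨c, rfl⟩ := ha; obtain ⟨d, rfl⟩ := hb
    exact ⟨c + d, HomogeneousLocalization.val_add c d⟩
  | smul c a _ ha =>
    obtain ⟨d, rfl⟩ := ha
    exact ⟨c * d, by rw [HomogeneousLocalization.val_mul, Algebra.smul_def,
      HomogeneousLocalization.algebraMap_apply]⟩
  | mem q hq =>
    obtain ⟨i, j, a, s, hs, hij, rfl⟩ := hq
    obtain rfl : i = j := by omega
    exact ⟨HomogeneousLocalization.mk ⟨i, a, s, hs⟩, HomogeneousLocalization.val_mk _⟩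

end Groth.Agent.ProjTwist
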